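import Mathlib
import Groth.Agent.Lib.Helper2.ResExt.Main

set_option autoImplicit false
set_option backward.isDefEq.respectTransparency.types false
set_option synthInstance.maxHeartbeats 400000
set_option maxHeartbeats 4000000
set_option linter.style.haveILetI false
set_option linter.unusedSectionVars false
set_option linter.unusedVariables false
set_option linter.unusedSimpArgs false

/-!
# Spreading out a rational point of a fibre of a finitely presented algebra to a finitely
presented locally closed subscheme of the base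
-/

open CategoryTheory AlgebraicGeometry

namespace Groth.Agent.Helper2.CDecomp

open Groth.Agent.Helper2.ResExt

universe u

theorem spread {A B K : Type u} [CommRing A] [CommRing B] [Field K] [Algebra A B]
    [Algebra.FinitePresentation A B] (ev : A →+* K) (hev : ∀ k : K, k ∈ fsSubring ev)
    (ψ : B →+* K) (hψ : ψ.comp (algebraMap A B) = ev) :
    ∃ (L : Type u) (_ : CommRing L) (ι : A →+* L) (χ : B →+* L) (lam : L →+* K),
      ι.FinitePresentation ∧ IsImmersion (Spec.map (CommRingCat.ofHom ι)) ∧
      χ.comp (algebraMap A B) = ι ∧ lam.comp ι = ev := by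
  classical
  obtain ⟨n, f, hf, hker⟩ := Algebra.FinitePresentation.out (R := A) (A := B)
  obtain ⟨g₀, hg₀, hden⟩ := exists_common_denom ev
    (Finset.univ.image (fun j : Fin n => ψ (f (MvPolynomial.X j))))
    (fun b _ => hev b)
  have hden' : ∀ j : Fin n, ∃ a : A, ψ (f (MvPolynomial.X j)) * ev g₀ = ev a := fun j =>
    hden _ (Finset.mem_image_of_mem _ (Finset.mem_univ j))
  choose a ha using hden'
  -- the localization
  let L₀ := Localization.Away g₀
  let θ : MvPolynomial (Fin n) A →ₐ[A] L₀ :=
    MvPolynomial.aeval (fun j => IsLocalization.mk' L₀ (a j)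
      (⟨g₀, Submonoid.mem_powers g₀⟩ : Submonoid.powers g₀))
  let lam₀ : L₀ →+* K := IsLocalization.Away.lift g₀ hg₀
  have hlam₀ : ∀ r : A, lam₀ (algebraMap A L₀ r) = ev r := fun r =>
    IsLocalization.Away.lift_eq g₀ hg₀ r
  have hcomp : lam₀.comp θ.toRingHom = ψ.comp f.toRingHom := by
    apply MvPolynomial.ringHom_ext
    · intro r
      show lam₀ (θ (MvPolynomial.C r)) = ψ (f (MvPolynomial.C r))
      have h1 : θ (MvPolynomial.C r) = algebraMap A L₀ r := by
        rw [← MvPolynomial.algebraMap_eq, AlgHom.commutes]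
      have h2 : f (MvPolynomial.C r) = algebraMap A B r := by
        rw [← MvPolynomial.algebraMap_eq, AlgHom.commutes]
      rw [h1, h2, hlam₀]
      exact (congr($hψ r)).symm
    · intro j
      show lam₀ (θ (MvPolynomial.X j)) = ψ (f (MvPolynomial.X j))
      have h1 : θ (MvPolynomial.X j) = IsLocalization.mk' L₀ (a j)
          (⟨g₀, Submonoid.mem_powers g₀⟩ : Submonoid.powers g₀) := by
        simp [θ]
      rw [h1]
      have h3 : lam₀ (IsLocalization.mk' L₀ (a j)
          (⟨g₀, Submonoid.mem_powers g₀⟩ : Submonoid.powers g₀)) * ev g₀ = ev (a j) := by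
        have hs := IsLocalization.mk'_spec L₀ (a j)
          (⟨g₀, Submonoid.mem_powers g₀⟩ : Submonoid.powers g₀)
        have := congrArg lam₀ hs
        rw [map_mul, hlam₀, hlam₀] at this
        exact this
      have h4 := ha j
      exact hg₀.mul_right_cancel (h3.trans h4.symm)
  -- the ideal
  obtain ⟨T, hT⟩ := hker
  let I' : Ideal L₀ := Ideal.span ((fun F => θ F) '' (T : Set (MvPolynomial (Fin n) A)))
  have hI'fg : I'.FG := ⟨T.image (fun F => θ F), by simp [I']⟩
  have hI'ker : I' ≤ RingHom.ker lam₀ := by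
    rw [Ideal.span_le]
    rintro _ ⟨F, hF, rfl⟩
    have hFk : F ∈ RingHom.ker f.toRingHom := by
      rw [← hT]; exact Ideal.subset_span hF
    have : lam₀ (θ F) = ψ (f F) := congr($hcomp F)
    rw [SetLike.mem_coe, RingHom.mem_ker, this]
    rw [RingHom.mem_ker] at hFk
    show ψ (f F) = 0
    rw [show f F = f.toRingHom F from rfl, hFk, map_zero]
  let L := L₀ ⧸ I'
  let ι : A →+* L := (Ideal.Quotient.mk I').comp (algebraMap A L₀)
  -- χ
  have hkerle : RingHom.ker f.toRingHom ≤ RingHom.ker ((Ideal.Quotient.mk I').comp θ.toRingHom) := by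
    rw [← hT, Ideal.span_le]
    intro F hF
    rw [SetLike.mem_coe, RingHom.mem_ker, RingHom.comp_apply, Ideal.Quotient.eq_zero_iff_mem]
    exact Ideal.subset_span ⟨F, hF, rfl⟩
  let χ : B →+* L := RingHom.liftOfSurjective f.toRingHom hf
    ⟨(Ideal.Quotient.mk I').comp θ.toRingHom, hkerle⟩
  have hχ : ∀ F, χ (f F) = Ideal.Quotient.mk I' (θ F) := fun F =>
    RingHom.liftOfRightInverse_comp_apply _ _ _ _ F
  refine ⟨L, inferInstance, ι, χ, Ideal.Quotient.lift I' lam₀ (fun x hx => hI'ker hx), ?_, ?_, ?_, ?_⟩
  · refine RingHom.FinitePresentation.comp ?_ ?_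
    · exact RingHom.FinitePresentation.of_surjective _ Ideal.Quotient.mk_surjective
        (by rw [Ideal.mk_ker]; exact hI'fg)
    · haveI : Algebra.FinitePresentation A L₀ :=
        IsLocalization.Away.finitePresentation g₀
      exact RingHom.finitePresentation_algebraMap.mpr this
  · show IsImmersion (Spec.map (CommRingCat.ofHom ((Ideal.Quotient.mk I').comp (algebraMap A L₀))))
    rw [CommRingCat.ofHom_comp, Spec.map_comp]
    haveI : IsClosedImmersion (Spec.map (CommRingCat.ofHom (Ideal.Quotient.mk I'))) :=
      IsClosedImmersion.spec_of_surjective _ Ideal.Quotient.mk_surjective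
    infer_instance
  · ext r
    show χ (algebraMap A B r) = Ideal.Quotient.mk I' (algebraMap A L₀ r)
    have h2 : f (MvPolynomial.C r) = algebraMap A B r := by
      rw [← MvPolynomial.algebraMap_eq, AlgHom.commutes]
    have h1 : θ (MvPolynomial.C r) = algebraMap A L₀ r := by
      rw [← MvPolynomial.algebraMap_eq, AlgHom.commutes]
    rw [← h2, hχ, h1]
  · ext r
    show Ideal.Quotient.lift I' lam₀ (fun x hx => hI'ker hx)
      (Ideal.Quotient.mk I' (algebraMap A L₀ r)) = ev r
    rw [Ideal.Quotient.lift_mk, hlam₀]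

end Groth.Agent.Helper2.CDecomp
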