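import Mathlib
import Groth.Agent.Lib.Helper2.CDecomp.Alg

set_option autoImplicit false
set_option backward.isDefEq.respectTransparency.types false
set_option synthInstance.maxHeartbeats 400000
set_option maxHeartbeats 4000000
set_option linter.style.haveILetI false
set_option linter.unusedSectionVars false
set_option linter.unusedVariables false
set_option linter.unusedSimpArgs false

/-!
# Completely decomposed morphisms locally of finite presentation admit sections over a finite
stratification of the base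
-/

open CategoryTheory CategoryTheory.Limits AlgebraicGeometry TopologicalSpace Topology

namespace Groth.Agent.Helper2.CDecomp

open Groth.Agent.Helper2.ResExt

universe u

section Top
variable {X : Type*} [TopologicalSpace X]

theorem isOpen_ct_of_isConstructible [CompactSpace X] {s : Set X} (hs : IsConstructible s) :
    IsOpen[constructibleTopology X] s ∧ IsOpen[constructibleTopology X] sᶜ := by
  induction hs using IsConstructible.empty_union_induction with
  | open_retrocompact U hUo hUc =>
    have hc : IsCompact U := hUc.isCompact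
    exact ⟨hc.isOpen_constructibleTopology_of_isOpen hUo,
      IsCompact.isOpen_constructibleTopology_of_isClosed (by rwa [compl_compl])
        hUo.isClosed_compl⟩
  | union s hs t ht ihs iht =>
    refine ⟨@IsOpen.union _ _ _ (constructibleTopology X) ihs.1 iht.1, ?_⟩
    rw [Set.compl_union]
    exact @IsOpen.inter X (constructibleTopology X) _ _ ihs.2 iht.2
  | compl s hs ih => exact ⟨ih.2, by rw [compl_compl]; exact ih.1⟩

theorem exists_finite_cover [CompactSpace X] [QuasiSober X] [PrespectralSpace X]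
    [QuasiSeparatedSpace X] {ι : Type*} (s : ι → Set X) (hs : ∀ i, IsConstructible (s i))
    (hcov : ∀ x, ∃ i, x ∈ s i) :
    ∃ t : Finset ι, ∀ x, ∃ i ∈ t, x ∈ s i := by
  have hopen : ∀ i, IsOpen
      ((WithTopology.ofTopology (t := constructibleTopology X)) ⁻¹' (s i)) := by
    intro i
    rw [WithTopology.isOpen_iff]
    exact (isOpen_ct_of_isConstructible (hs i)).1
  obtain ⟨t, ht⟩ := isCompact_univ.elim_finite_subcover _ hopen (by
    intro x _
    obtain ⟨i, hi⟩ := hcov (WithTopology.ofTopology x)
    exact Set.mem_iUnion.mpr ⟨i, hi⟩)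
  refine ⟨t, fun x => ?_⟩
  have := ht (Set.mem_univ (WithTopology.toTopology (constructibleTopology X) x))
  simp only [Set.mem_iUnion] at this
  obtain ⟨i, hi, hx⟩ := this
  exact ⟨i, hi, hx⟩

end Top

theorem local_piece {X Y : Scheme.{u}} (f : X ⟶ Y) [LocallyOfFinitePresentation f] (x : X)
    (hbij : Function.Bijective (f.residueFieldMap x)) :
    ∃ (Z : Scheme.{u}) (z : Z ⟶ Y) (σ : Z ⟶ X), IsAffine Z ∧ IsImmersion z ∧
      LocallyOfFinitePresentation z ∧ σ ≫ f = z ∧ f x ∈ Set.range z := by
  obtain ⟨V, hV, hyV, -⟩ := exists_isAffineOpen_mem_and_subset (x := f x) (U := ⊤) trivial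
  obtain ⟨W, hW, hxW, hWV⟩ := exists_isAffineOpen_mem_and_subset (x := x) (U := f ⁻¹ᵁ V) hyV
  letI : Algebra Γ(Y, V) Γ(X, W) := (f.appLE V W hWV).hom.toAlgebra
  haveI : Algebra.FinitePresentation Γ(Y, V) Γ(X, W) :=
    HasRingHomProperty.appLE @LocallyOfFinitePresentation f inferInstance ⟨V, hV⟩ ⟨W, hW⟩ hWV
  let eK : Y.residueField (f x) ≃+* X.residueField x :=
    RingEquiv.ofBijective (f.residueFieldMap x).hom hbij
  let ev : Γ(Y, V) →+* Y.residueField (f x) := (Y.evaluation V (f x) hyV).hom
  let ψ : Γ(X, W) →+* Y.residueField (f x) :=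
    eK.symm.toRingHom.comp (X.evaluation W x hxW).hom
  have hψ : ψ.comp (algebraMap Γ(Y, V) Γ(X, W)) = ev := by
    ext a
    show eK.symm ((X.evaluation W x hxW).hom (f.appLE V W hWV a)) =
      (Y.evaluation V (f x) hyV).hom a
    rw [RingEquiv.symm_apply_eq]
    show _ = f.residueFieldMap x (Y.evaluation V (f x) hyV a)
    rw [Scheme.evaluation_naturality_apply]
    show (X.presheaf.germ W x hxW ≫ X.residue x) ((f.app V ≫ X.presheaf.map (homOfLE hWV).op) a) =
      (X.presheaf.germ (f ⁻¹ᵁ V) x hyV ≫ X.residue x) (f.app V a)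
    simp only [CommRingCat.comp_apply]
    congr 1
    exact TopCat.Presheaf.germ_res_apply X.presheaf (homOfLE hWV) x hxW _
  obtain ⟨L, _, ι, χ, lam, hfp, himm, hχ, hlam⟩ :=
    spread ev (fs_evaluation Y (f x) V hV hyV) ψ hψ
  refine ⟨Spec (CommRingCat.of L), Spec.map (CommRingCat.ofHom ι) ≫ hV.fromSpec,
    Spec.map (CommRingCat.ofHom χ) ≫ hW.fromSpec, inferInstance, ?_, ?_, ?_, ?_⟩
  · haveI := himm
    infer_instance
  · haveI : LocallyOfFinitePresentation (Spec.map (CommRingCat.ofHom ι)) := by
      rw [HasRingHomProperty.Spec_iff (P := @LocallyOfFinitePresentation)]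
      exact hfp
    infer_instance
  · rw [Category.assoc, ← hV.SpecMap_appLE_fromSpec f hW hWV, ← Category.assoc, ← Spec.map_comp]
    congr 2
    ext a
    exact congr($hχ a)
  · refine ⟨Spec.map (CommRingCat.ofHom lam) (IsLocalRing.closedPoint _), ?_⟩
    have e1 : Spec.map (CommRingCat.ofHom lam) ≫ Spec.map (CommRingCat.ofHom ι) ≫ hV.fromSpec =
        Y.fromSpecResidueField (f x) := by
      rw [← Category.assoc, ← Spec.map_comp, ← fromSpecResidueField_eq Y (f x) V hV hyV]
      congr 2
      ext a
      exact congr($hlam a)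
    have h2 : (Spec.map (CommRingCat.ofHom lam) ≫ Spec.map (CommRingCat.ofHom ι) ≫ hV.fromSpec)
        (IsLocalRing.closedPoint _) = f x := by
      rw [e1]
      exact Scheme.fromSpecResidueField_apply _ _
    exact h2

theorem main1440 {X Y : Scheme.{u}} (f : X ⟶ Y) [LocallyOfFinitePresentation f]
    [CompactSpace ↑Y] [QuasiSeparatedSpace ↑Y]
    (hcd : ∀ y : Y, ∃ x : X, f x = y ∧ Function.Bijective (f.residueFieldMap x)) :
    ∃ (n : ℕ) (Z : Fin n → Scheme.{u}) (z : ∀ i, Z i ⟶ Y),
      (∀ y : Y, ∃ i, y ∈ Set.range ⇑(z i)) ∧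
      ∀ i, IsImmersion (z i) ∧ LocallyOfFinitePresentation (z i) ∧ QuasiCompact (z i) ∧
        QuasiSeparated (z i) ∧
        ∃ s : Z i ⟶ pullback f (z i), s ≫ pullback.snd f (z i) = 𝟙 (Z i) := by
  choose x hx hbij using hcd
  have hloc := fun y => local_piece f (x y) (hbij y)
  choose Z z σ hZaff hzimm hzfp hσ hmem using hloc
  have hcons : ∀ y, IsConstructible (Set.range (z y)) := by
    intro y
    haveI := hZaff y
    haveI := hzfp y
    haveI : QuasiCompact (z y) := inferInstance
    rw [← Set.image_univ]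
    exact (z y).isConstructible_image IsConstructible.univ
  obtain ⟨t, ht⟩ := exists_finite_cover (fun y => Set.range (z y)) hcons
    (fun y => ⟨y, by have := hmem y; rwa [hx y] at this⟩)
  let e := t.equivFin
  refine ⟨t.card, fun i => Z (e.symm i).1, fun i => z (e.symm i).1, ?_, ?_⟩
  · intro y
    obtain ⟨y', hy't, hy⟩ := ht y
    refine ⟨e ⟨y', hy't⟩, ?_⟩
    show y ∈ Set.range ⇑(z (e.symm (e ⟨y', hy't⟩)).1)
    rw [Equiv.symm_apply_apply]
    exact hy
  · intro i
    haveI := hZaff (e.symm i).1
    haveI := hzimm (e.symm i).1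
    haveI := hzfp (e.symm i).1
    refine ⟨inferInstance, inferInstance, inferInstance, inferInstance,
      pullback.lift (σ (e.symm i).1) (𝟙 _) (by rw [hσ, Category.id_comp]),
      pullback.lift_snd _ _ _⟩

end Groth.Agent.Helper2.CDecomp
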